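import Mathlib
import Groth.Agent.H37.IntLim
import Groth.Agent.H24.LimitClosedImmStage

/-!
# Zariski's main theorem, finite form (helper68)

Let `f : X ⟶ S` be locally quasi-finite, locally of finite type, quasi-compact and separated, with
`S` quasi-compact and quasi-separated.  Then `f` factors as an immersion `φ : X ⟶ T` followed by a
morphism `T ⟶ S` which is finite and locally of finite presentation.  Taking the scheme theoretic
image of `φ` gives the factorization "quasi-compact open immersion followed by a finite morphism".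

Proof: Mathlib's form of Zariski's main theorem says that `X ⟶ X'` is an open immersion, where
`X' ⟶ S` is the normalization of `S` in `X`.  By helper37, `X' = lim T_i` with `T_i` finite and
finitely presented over `S`.  The quasi-compact open `X ⊆ X'` is the preimage of a quasi-compact
open `V ⊆ T_i` (Mathlib, 01Z4) and, by helper24's descent of closed immersions, `X ⟶ V_j` is a
closed immersion for a larger index `j`.
-/

set_option autoImplicit false
universe u
open CategoryTheory CategoryTheory.Limits AlgebraicGeometry Opposite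

namespace Groth.Agent.H68.ZMT

set_option backward.isDefEq.respectTransparency false in
/-- **Zariski's main theorem, immersion into a finite finitely presented scheme.** -/
theorem exists_immersion_finite_fp {X S : Scheme.{u}} (f : X ⟶ S)
    [CompactSpace S] [QuasiSeparatedSpace S]
    [LocallyQuasiFinite f] [LocallyOfFiniteType f] [QuasiCompact f] [IsSeparated f] :
    ∃ (T : Scheme.{u}) (φ : X ⟶ T) (π : T ⟶ S),
      IsImmersion φ ∧ IsFinite π ∧ LocallyOfFinitePresentation π ∧ φ ≫ π = f := by
  classical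
  obtain ⟨I, _, _, _, D, c, hc, hD, ⟨e⟩⟩ :=
    Groth.Agent.H37.IntLim.exists_limit_finite_fp f.fromNormalization
  haveI : IsCofiltered Iᵒᵖ := inferInstance
  let D' : Iᵒᵖ ⥤ Scheme.{u} := D ⋙ Over.forget S
  let c' : Cone D' := (Over.forget S).mapCone c
  have hc' : IsLimit c' := isLimitOfPreserves (Over.forget S) hc
  have haff : ∀ {i j : Iᵒᵖ} (a : i ⟶ j), IsAffineHom (D'.map a) := by
    intro i j a
    have h1 : (D.map a).left ≫ (D.obj j).hom = (D.obj i).hom := Over.w (D.map a)
    haveI : IsAffineHom ((D.map a).left ≫ (D.obj j).hom) := by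
      rw [h1]; haveI := (hD i).1; infer_instance
    haveI : IsFinite (D.obj j).hom := (hD j).1
    exact IsAffineHom.of_comp (D.map a).left (D.obj j).hom
  haveI : CompactSpace X := QuasiCompact.compactSpace_of_compactSpace f
  -- the open immersion into the limit
  haveI : IsIso e.inv.left := (Over.forget S).map_isIso e.inv
  let j₁ : X ⟶ c'.pt := f.toNormalization ≫ e.inv.left
  haveI : IsOpenImmersion j₁ := inferInstance
  have hj₁ : ∀ i, j₁ ≫ c'.π.app i ≫ (D.obj i).hom = f := by
    intro i
    have h1 : c'.π.app i ≫ (D.obj i).hom = c.pt.hom := Over.w (c.π.app i)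
    have h2 : e.inv.left ≫ c.pt.hom = f.fromNormalization := Over.w e.inv
    rw [h1, Category.assoc, h2, Scheme.Hom.toNormalization_fromNormalization]
  have hU₀ : IsCompact (j₁.opensRange : Set c'.pt) := by
    rw [Scheme.Hom.coe_opensRange]
    exact isCompact_range j₁.continuous
  obtain ⟨i, V, hV, hVU⟩ := exists_preimage_eq D' c' hc' j₁.opensRange hU₀
  -- the induced isomorphism onto the limit of the opens
  let W : c'.pt.Opens := c'.π.app i ⁻¹ᵁ V
  have hle : j₁.opensRange ≤ W.ι.opensRange := by
    rw [Scheme.Opens.opensRange_ι]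
    exact hVU.ge
  let h₀ : X ⟶ (W : Scheme.{u}) := IsOpenImmersion.lift W.ι j₁ hle
  have hh₀ : h₀ ≫ W.ι = j₁ := IsOpenImmersion.lift_fac _ _ _
  haveI : Surjective h₀ := by
    constructor
    intro x
    have hx : x.1 ∈ j₁.opensRange := hVU ▸ x.2
    obtain ⟨y, hy⟩ := hx
    refine ⟨y, ?_⟩
    apply W.ι.isOpenEmbedding.injective
    have h3 : (h₀ ≫ W.ι) y = W.ι x := by rw [hh₀]; exact hy
    exact h3
  let h : X ⟶ (opensCone D' c' i V).pt := h₀
  have hh : h ≫ W.ι = j₁ := hh₀
  haveI : IsOpenImmersion h := by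
    haveI : IsOpenImmersion (h ≫ W.ι) := by rw [hh]; infer_instance
    exact IsOpenImmersion.of_comp h W.ι
  haveI : Surjective h := ‹Surjective h₀›
  haveI : IsIso h := (isIso_iff_isOpenImmersion_and_surjective h).mpr ⟨inferInstance, inferInstance⟩
  haveI : CompactSpace ((opensDiagram D' i V).obj (Over.mk (𝟙 i))) := by
    have : IsCompact ((D'.map (𝟙 i) ⁻¹ᵁ V : (D'.obj i).Opens) : Set (D'.obj i)) := by
      rw [D'.map_id]; exact hV
    exact isCompact_iff_compactSpace.mp this
  have hπ : ∀ k : Over i, (h ≫ (opensCone D' c' i V).π.app k) ≫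
      (D'.map k.hom ⁻¹ᵁ V).ι ≫ (D.obj k.left).hom = f := by
    intro k
    change (h ≫ (c'.π.app k.left).resLE _ _ _) ≫ _ = _
    rw [Category.assoc, Scheme.Hom.resLE_comp_ι_assoc, ← Category.assoc h, hh]
    exact hj₁ k.left
  haveI : LocallyOfFiniteType (h ≫ (opensCone D' c' i V).π.app (Over.mk (𝟙 i))) := by
    haveI : LocallyOfFiniteType ((h ≫ (opensCone D' c' i V).π.app (Over.mk (𝟙 i))) ≫
        (D'.map (Over.mk (𝟙 i)).hom ⁻¹ᵁ V).ι ≫ (D.obj (Over.mk (𝟙 i)).left).hom) := by
      rw [hπ]; infer_instance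
    exact locallyOfFiniteType_of_comp _
      ((D'.map (Over.mk (𝟙 i)).hom ⁻¹ᵁ V).ι ≫ (D.obj (Over.mk (𝟙 i)).left).hom)
  obtain ⟨k, hk⟩ := Groth.Agent.H24.exists_isClosedImmersion_comp_π (D := opensDiagram D' i V)
    (c := opensCone D' c' i V) (isLimitOpensCone D' c' hc' i V) (Over.mk (𝟙 i)) h
  have hk' : IsClosedImmersion (h ≫ (opensCone D' c' i V).π.app k.left) := hk
  refine ⟨(D.obj k.left.left).left,
    (h ≫ (opensCone D' c' i V).π.app k.left) ≫ (D'.map k.left.hom ⁻¹ᵁ V).ι,
    (D.obj k.left.left).hom, inferInstance, (hD _).1, (hD _).2, ?_⟩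
  rw [Category.assoc]
  exact hπ k.left

end Groth.Agent.H68.ZMT
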