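import Mathlib
import Groth.Agent.H68.ZMT.Finite

/-!
# Extending finite surjective morphisms from a quasi-compact open (helper68)

Let `S` be quasi-compact and quasi-separated, `U ⊆ S` a quasi-compact open and `v : V ⟶ U` finite.
Then there is a finite morphism `Y ⟶ S` whose base change to `U` is `V` (take the scheme theoretic
closure of `V` in a finite `S`-scheme containing `V` as an open subscheme, which exists by Zariski's
main theorem).  If `v` is surjective, adding the reduced complement of `U` makes `Y ⟶ S` surjective.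
-/

set_option autoImplicit false
universe u
open CategoryTheory CategoryTheory.Limits AlgebraicGeometry Opposite

namespace Groth.Agent.H68.ZMT

/-- A dominant open immersion `j : V ⟶ Y` over `S`, with `V` finite over an open `U` of `S` and `Y`
separated over `S`, identifies `V` with the preimage of `U`. -/
theorem range_eq_preimage_of_dominant {S V Y : Scheme.{u}} (U : S.Opens)
    (v : V ⟶ (U : Scheme.{u})) [IsFinite v] (j : V ⟶ Y) [IsOpenImmersion j] [IsDominant j]
    (π : Y ⟶ S) [IsSeparated π] (hfac : j ≫ π = v ≫ U.ι) :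
    π ⁻¹ᵁ U = j.opensRange := by
  let W : Y.Opens := π ⁻¹ᵁ U
  have hrange : Set.range j ⊆ Set.range W.ι := by
    rintro _ ⟨x, rfl⟩
    rw [Scheme.Opens.range_ι]
    change π (j x) ∈ U
    rw [← Scheme.Hom.comp_apply, hfac, Scheme.Hom.comp_apply]
    exact (v x).2
  let j' : V ⟶ (W : Scheme.{u}) := IsOpenImmersion.lift W.ι j hrange
  have hj' : j' ≫ W.ι = j := IsOpenImmersion.lift_fac _ _ _
  have hj'π : j' ≫ (π ∣_ U) = v := by
    rw [← cancel_mono U.ι, Category.assoc, morphismRestrict_ι, reassoc_of% hj', hfac]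
  haveI : UniversallyClosed (j' ≫ (π ∣_ U)) := by rw [hj'π]; infer_instance
  haveI : UniversallyClosed j' := UniversallyClosed.of_comp_of_isSeparated j' (π ∣_ U)
  have hcl : IsClosed (Set.range j') := j'.isClosedMap.isClosed_range
  -- the complement of the range of `j'` is open in `Y` and misses the dense range of `j`
  have hsurj : Function.Surjective j' := by
    by_contra hns
    have hne : ((Set.range j')ᶜ).Nonempty := by
      rw [Set.nonempty_compl]
      intro h
      exact hns (Set.range_eq_univ.mp h)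
    have hO : IsOpen (W.ι '' (Set.range j')ᶜ) := W.ι.isOpenEmbedding.isOpenMap _ hcl.isOpen_compl
    obtain ⟨y, hyO, x, rfl⟩ := j.denseRange.inter_open_nonempty _ hO (hne.image _)
    obtain ⟨w, hw, hwx⟩ := hyO
    apply hw
    refine ⟨x, ?_⟩
    apply W.ι.isOpenEmbedding.injective
    rw [hwx, ← Scheme.Hom.comp_apply, hj']
  apply le_antisymm
  · intro y hy
    obtain ⟨x, hx⟩ := hsurj ⟨y, hy⟩
    refine ⟨x, ?_⟩
    have : (j' ≫ W.ι) x = y := by
      rw [Scheme.Hom.comp_apply, hx]; rfl
    rwa [hj'] at this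
  · rintro _ ⟨x, rfl⟩
    have := hrange ⟨x, rfl⟩
    rw [Scheme.Opens.range_ι] at this
    exact this

/-- **Extension of a finite morphism** from a quasi-compact open of a qcqs scheme. -/
theorem exists_finite_extension {S V : Scheme.{u}} [CompactSpace S] [QuasiSeparatedSpace S]
    (U : S.Opens) (hU : IsCompact (U : Set S)) (v : V ⟶ (U : Scheme.{u})) [IsFinite v] :
    ∃ (Y : Scheme.{u}) (π : Y ⟶ S) (i : V ⟶ Y), IsFinite π ∧ IsOpenImmersion i ∧
      i ≫ π = v ≫ U.ι ∧ ((π ⁻¹ᵁ U : Y.Opens) : Set Y) = Set.range i := by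
  haveI : CompactSpace (U : Scheme.{u}) := isCompact_iff_compactSpace.mp hU
  haveI : QuasiCompact U.ι := inferInstance
  obtain ⟨T, φ, π, hφ, hπ, -, hfac⟩ := exists_immersion_finite_fp (v ≫ U.ι)
  haveI : QuasiCompact φ := by
    haveI : QuasiCompact (φ ≫ π) := by rw [hfac]; infer_instance
    exact QuasiCompact.of_comp φ π
  have hfac' : φ.toImage ≫ φ.imageι ≫ π = v ≫ U.ι := by
    rw [Scheme.Hom.toImage_imageι_assoc, hfac]
  refine ⟨φ.image, φ.imageι ≫ π, φ.toImage, inferInstance, inferInstance, hfac', ?_⟩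
  rw [range_eq_preimage_of_dominant U v φ.toImage (φ.imageι ≫ π) hfac']
  exact Scheme.Hom.coe_opensRange _

/-- **Extension of a finite surjective morphism** from a quasi-compact open of a qcqs scheme. -/
theorem exists_finite_surjective_extension {S V : Scheme.{u}} [CompactSpace S]
    [QuasiSeparatedSpace S] (U : S.Opens) (hU : IsCompact (U : Set S))
    (v : V ⟶ (U : Scheme.{u})) [IsFinite v] [Surjective v] :
    ∃ (V' : Scheme.{u}) (π : V' ⟶ S) (i : V ⟶ V'), Surjective π ∧ IsFinite π ∧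
      IsPullback i v π U.ι := by
  obtain ⟨Y, π₀, i₀, hπ₀, hi₀, hfac₀, hpre₀⟩ := exists_finite_extension U hU v
  let Zc : TopologicalSpace.Closeds S := ⟨(U : Set S)ᶜ, U.2.isClosed_compl⟩
  let I := Scheme.IdealSheafData.vanishingIdeal Zc
  let z : I.subscheme ⟶ S := I.subschemeι
  have hz : Set.range z = (U : Set S)ᶜ := by
    rw [I.range_subschemeι]; simp [I, Zc]
  let π : Y ⨿ I.subscheme ⟶ S := coprod.desc π₀ z
  have hinl : (coprod.inl : Y ⟶ Y ⨿ I.subscheme) ≫ π = π₀ := coprod.inl_desc _ _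
  have hinr : (coprod.inr : I.subscheme ⟶ Y ⨿ I.subscheme) ≫ π = z := coprod.inr_desc _ _
  have hw : (i₀ ≫ coprod.inl) ≫ π = v ≫ U.ι := by
    rw [Category.assoc, hinl, hfac₀]
  refine ⟨Y ⨿ I.subscheme, π, i₀ ≫ coprod.inl, ⟨fun s ↦ ?_⟩, inferInstance, ?_⟩
  · by_cases hs : s ∈ U
    · obtain ⟨x, hx⟩ := v.surjective ⟨s, hs⟩
      refine ⟨(i₀ ≫ coprod.inl) x, ?_⟩
      rw [← Scheme.Hom.comp_apply, hw, Scheme.Hom.comp_apply, hx]
      rfl
    · have : s ∈ Set.range z := by rw [hz]; exact hs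
      obtain ⟨ζ, rfl⟩ := this
      exact ⟨(coprod.inr : I.subscheme ⟶ Y ⨿ I.subscheme) ζ,
        by rw [← Scheme.Hom.comp_apply, hinr]⟩
  · refine (IsOpenImmersion.isPullback v (i₀ ≫ coprod.inl) U.ι π hw ?_).flip
    rw [Scheme.Opens.opensRange_ι]
    ext y
    constructor
    · intro hy
      have hy' : π y ∈ U := hy
      have hx : y ∈ Set.range (coprod.inl : Y ⟶ Y ⨿ I.subscheme) ∪
          Set.range (coprod.inr : I.subscheme ⟶ Y ⨿ I.subscheme) := by
        have := (isCompl_range_inl_inr Y I.subscheme).sup_eq_top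
        have h' : y ∈ (⊤ : Set ↥(Y ⨿ I.subscheme)) := Set.mem_univ _
        rw [← this] at h'
        exact h'
      rcases hx with ⟨y₀, rfl⟩ | ⟨ζ, rfl⟩
      · have h1 : π₀ y₀ ∈ U := by
          rw [← hinl, Scheme.Hom.comp_apply]; exact hy'
        have h2 : y₀ ∈ ((π₀ ⁻¹ᵁ U : Y.Opens) : Set Y) := h1
        rw [hpre₀] at h2
        obtain ⟨x, rfl⟩ := h2
        exact ⟨x, by rw [Scheme.Hom.comp_apply]⟩
      · exfalso
        have h3 : z ζ ∈ (U : Set S)ᶜ := by rw [← hz]; exact ⟨ζ, rfl⟩
        apply h3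
        rw [← hinr, Scheme.Hom.comp_apply]
        exact hy'
    · rintro ⟨x, rfl⟩
      change π ((i₀ ≫ coprod.inl) x) ∈ U
      rw [← Scheme.Hom.comp_apply, hw, Scheme.Hom.comp_apply]
      exact (v x).2

end Groth.Agent.H68.ZMT
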