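import Mathlib
import Groth.Agent.H68.ZMT.Finite
import Groth.Agent.H20.NA.FiniteLim
import Groth.Agent.H24.LimitIso
import Groth.Agent.H50.LfpCancel

/-!
# Zariski's main theorem, finitely presented form (helper68)

Let `f : X ⟶ S` be locally quasi-finite, locally of finite presentation, quasi-compact and
separated, with `S` quasi-compact and quasi-separated.  Then `f` factors as a quasi-compact open
immersion `X ⟶ T` followed by a morphism `T ⟶ S` which is finite and locally of finite presentation.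

Proof: by `H68/ZMT/Finite`, `f` factors as an open immersion `X ⟶ T` with `T ⟶ S` finite.  By
helper20, `T = lim T_i` with `T_i` finite and finitely presented over `S` and closed immersions as
transition maps.  The quasi-compact open `X ⊆ T` is the preimage of a quasi-compact open
`V ⊆ T_i`; the morphism `X ⟶ V` is locally of finite presentation and its base change to the limit
is an isomorphism, hence (helper24) so is its base change `X ≅ V_j` to some stage `j`.
-/

set_option autoImplicit false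
universe u
open CategoryTheory CategoryTheory.Limits AlgebraicGeometry Opposite

namespace Groth.Agent.H68.ZMT

section cat

variable {C : Type*} [Category C]

/-- If `m` is a monomorphism and `g` factors through `m`, then `pullback.snd m g` is an iso. -/
theorem isIso_pullback_snd_of_mono_of_fac {A B X : C} (m : A ⟶ B) [Mono m] (g : X ⟶ B)
    (k : X ⟶ A) (hk : k ≫ m = g) [HasPullback m g] : IsIso (pullback.snd m g) := by
  refine ⟨pullback.lift k (𝟙 X) (by rw [hk, Category.id_comp]), ?_, ?_⟩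
  · apply pullback.hom_ext
    · rw [Category.assoc, pullback.lift_fst, Category.id_comp, ← cancel_mono m, Category.assoc, hk,
        pullback.condition]
    · rw [Category.assoc, pullback.lift_snd, Category.comp_id, Category.id_comp]
  · rw [pullback.lift_snd]

theorem pullback_fst_eq_snd_comp_of_mono_of_fac {A B X : C} (m : A ⟶ B) [Mono m] (g : X ⟶ B)
    (k : X ⟶ A) (hk : k ≫ m = g) [HasPullback m g] :
    pullback.fst m g = pullback.snd m g ≫ k := by
  rw [← cancel_mono m, Category.assoc, hk, pullback.condition]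

end cat

set_option backward.isDefEq.respectTransparency false in
/-- **Zariski's main theorem, finitely presented form.** -/
theorem exists_openImmersion_finite_fp {X S : Scheme.{u}} (f : X ⟶ S)
    [CompactSpace S] [QuasiSeparatedSpace S]
    [IsSeparated f] [QuasiCompact f] [LocallyQuasiFinite f] [LocallyOfFinitePresentation f] :
    ∃ (T : Scheme.{u}) (j : X ⟶ T) (π : T ⟶ S), IsOpenImmersion j ∧ QuasiCompact j ∧
      IsFinite π ∧ LocallyOfFinitePresentation π ∧ j ≫ π = f := by
  classical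
  -- Step 1: open immersion into a finite `S`-scheme
  obtain ⟨T₀, φ, π₀, hφ, hπ₀, -, hfac₀⟩ := exists_immersion_finite_fp f
  haveI : QuasiCompact φ := by
    haveI : QuasiCompact (φ ≫ π₀) := by rw [hfac₀]; infer_instance
    exact QuasiCompact.of_comp φ π₀
  have hfac : φ.toImage ≫ φ.imageι ≫ π₀ = f := by
    rw [Scheme.Hom.toImage_imageι_assoc, hfac₀]
  -- Step 2: write the finite scheme as a limit
  obtain ⟨I, _, _, _, D, c, hc, hD, hcl, ⟨e⟩⟩ :=
    Groth.Agent.H20.NA.exists_limit_finite_fp (φ.imageι ≫ π₀)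
  haveI : IsCofiltered Iᵒᵖ := inferInstance
  let D' : Iᵒᵖ ⥤ Scheme.{u} := D ⋙ Over.forget S
  let c' : Cone D' := (Over.forget S).mapCone c
  have hc' : IsLimit c' := isLimitOfPreserves (Over.forget S) hc
  have hcl' : ∀ {i j : Iᵒᵖ} (a : i ⟶ j), IsClosedImmersion (D'.map a) := fun a => hcl _ _ a
  have haff : ∀ {i j : Iᵒᵖ} (a : i ⟶ j), IsAffineHom (D'.map a) := fun a => by
    haveI := hcl' a; infer_instance
  haveI : CompactSpace X := QuasiCompact.compactSpace_of_compactSpace f
  haveI : IsIso e.inv.left := (Over.forget S).map_isIso e.inv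
  let j₁ : X ⟶ c'.pt := φ.toImage ≫ e.inv.left
  haveI : IsOpenImmersion j₁ := inferInstance
  have hj₁ : ∀ i, j₁ ≫ c'.π.app i ≫ (D.obj i).hom = f := by
    intro i
    have h1 : c'.π.app i ≫ (D.obj i).hom = c.pt.hom := Over.w (c.π.app i)
    have h2 : e.inv.left ≫ c.pt.hom = φ.imageι ≫ π₀ := Over.w e.inv
    rw [h1, Category.assoc, h2, hfac]
  have hU₀ : IsCompact (j₁.opensRange : Set c'.pt) := by
    rw [Scheme.Hom.coe_opensRange]
    exact isCompact_range j₁.continuous
  obtain ⟨i, V, hV, hVU⟩ := exists_preimage_eq D' c' hc' j₁.opensRange hU₀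
  -- the projection to the stage `i` is a monomorphism
  haveI hπmono : Mono (c'.π.app i) := by
    constructor
    intro Z a b hab
    apply hc'.hom_ext
    intro k
    have h1 : a ≫ c'.π.app (IsCofiltered.min i k) = b ≫ c'.π.app (IsCofiltered.min i k) := by
      haveI := hcl' (IsCofiltered.minToLeft i k)
      rw [← cancel_mono (D'.map (IsCofiltered.minToLeft i k)), Category.assoc, Category.assoc,
        c'.w]
      exact hab
    rw [← c'.w (IsCofiltered.minToRight i k), reassoc_of% h1]
  -- the morphism `X ⟶ V`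
  let g₀ : (V : Scheme.{u}) ⟶ D'.obj i := V.ι
  have hrange : Set.range (j₁ ≫ c'.π.app i) ⊆ Set.range V.ι := by
    rintro _ ⟨x, rfl⟩
    have hx : j₁ x ∈ c'.π.app i ⁻¹ᵁ V := by
      rw [hVU]; exact ⟨x, rfl⟩
    rw [Scheme.Opens.range_ι]
    exact hx
  let f₀ : X ⟶ (V : Scheme.{u}) := IsOpenImmersion.lift V.ι (j₁ ≫ c'.π.app i) hrange
  have hf₀ : f₀ ≫ g₀ = j₁ ≫ c'.π.app i := IsOpenImmersion.lift_fac _ _ _
  haveI : LocallyOfFinitePresentation f₀ := by
    refine Groth.Agent.H50.locallyOfFinitePresentation_of_comp f₀ (g₀ ≫ (D.obj i).hom) ?_ ?_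
    · rw [reassoc_of% hf₀, hj₁]; infer_instance
    · haveI := (hD i).2
      infer_instance
  haveI : CompactSpace (V : Scheme.{u}) := isCompact_iff_compactSpace.mp hV
  haveI : QuasiSeparatedSpace (V : Scheme.{u}) := by
    haveI : IsFinite (D.obj i).hom := (hD i).1
    haveI : QuasiSeparatedSpace (D'.obj i : Scheme.{u}) :=
      quasiSeparatedSpace_of_quasiSeparated (D.obj i).hom
    exact quasiSeparatedSpace_of_quasiSeparated V.ι
  -- the base change to the limit is an isomorphism
  have hlim : IsIso (Groth.Agent.H24.limMap D' c' i f₀ g₀) := by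
    haveI h1 : IsIso (pullback.snd (c'.π.app i) (f₀ ≫ g₀)) :=
      isIso_pullback_snd_of_mono_of_fac _ _ j₁ hf₀.symm
    have h2 : pullback.fst (c'.π.app i) (f₀ ≫ g₀) = pullback.snd (c'.π.app i) (f₀ ≫ g₀) ≫ j₁ :=
      pullback_fst_eq_snd_comp_of_mono_of_fac _ _ j₁ hf₀.symm
    have h3 := Groth.Agent.H24.limMap_fst D' c' i f₀ g₀
    haveI : IsOpenImmersion (Groth.Agent.H24.limMap D' c' i f₀ g₀) := by
      haveI : IsOpenImmersion (Groth.Agent.H24.limMap D' c' i f₀ g₀ ≫
          pullback.fst (c'.π.app i) g₀) := by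
        rw [h3, h2]; infer_instance
      exact IsOpenImmersion.of_comp _ (pullback.fst (c'.π.app i) g₀)
    haveI : Surjective (Groth.Agent.H24.limMap D' c' i f₀ g₀) := by
      constructor
      intro p
      have hp : (pullback.fst (c'.π.app i) g₀) p ∈ c'.π.app i ⁻¹ᵁ V := by
        change (c'.π.app i) ((pullback.fst (c'.π.app i) g₀) p) ∈ V
        rw [← Scheme.Hom.comp_apply, pullback.condition, Scheme.Hom.comp_apply]
        exact (pullback.snd (c'.π.app i) g₀ p).2
      rw [hVU] at hp
      obtain ⟨x, hx⟩ := hp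
      refine ⟨inv (pullback.snd (c'.π.app i) (f₀ ≫ g₀)) x, ?_⟩
      apply (pullback.fst (c'.π.app i) g₀).isOpenEmbedding.injective
      have h5 : inv (pullback.snd (c'.π.app i) (f₀ ≫ g₀)) ≫ Groth.Agent.H24.limMap D' c' i f₀ g₀ ≫
          pullback.fst (c'.π.app i) g₀ = j₁ := by
        rw [h3, h2, IsIso.inv_hom_id_assoc]
      have h6 : (inv (pullback.snd (c'.π.app i) (f₀ ≫ g₀)) ≫
          Groth.Agent.H24.limMap D' c' i f₀ g₀ ≫ pullback.fst (c'.π.app i) g₀) x =
          (pullback.fst (c'.π.app i) g₀) p := by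
        rw [h5]; exact hx
      exact h6
    exact (isIso_iff_isOpenImmersion_and_surjective _).mpr ⟨inferInstance, inferInstance⟩
  obtain ⟨ψ, hψ⟩ := Groth.Agent.H24.exists_isIso_stageMap_of_isIso_limMap D' c' i f₀ g₀ hc' hlim
  -- conclusion at the stage `ψ`
  haveI := hcl' ψ.hom
  have hk : (j₁ ≫ c'.π.app ψ.left) ≫ D'.map ψ.hom = f₀ ≫ g₀ := by
    rw [Category.assoc, c'.w, hf₀]
  haveI h1 : IsIso (pullback.snd (D'.map ψ.hom) (f₀ ≫ g₀)) :=
    isIso_pullback_snd_of_mono_of_fac _ _ _ hk
  have h2 : pullback.fst (D'.map ψ.hom) (f₀ ≫ g₀) =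
      pullback.snd (D'.map ψ.hom) (f₀ ≫ g₀) ≫ j₁ ≫ c'.π.app ψ.left :=
    pullback_fst_eq_snd_comp_of_mono_of_fac _ _ _ hk
  have h3 := Groth.Agent.H24.stageMap_fst D' i f₀ g₀ ψ
  have h4 : j₁ ≫ c'.π.app ψ.left = inv (pullback.snd (D'.map ψ.hom) (f₀ ≫ g₀)) ≫
      Groth.Agent.H24.stageMap D' i f₀ g₀ ψ ≫ pullback.fst (D'.map ψ.hom) g₀ := by
    rw [h3, h2, IsIso.inv_hom_id_assoc]
  haveI : IsOpenImmersion (j₁ ≫ c'.π.app ψ.left) := by
    rw [h4]; infer_instance
  haveI : IsFinite (D.obj ψ.left).hom := (hD _).1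
  haveI : QuasiCompact ((j₁ ≫ c'.π.app ψ.left) ≫ (D.obj ψ.left).hom) := by
    rw [Category.assoc, hj₁]; infer_instance
  exact ⟨(D.obj ψ.left).left, j₁ ≫ c'.π.app ψ.left, (D.obj ψ.left).hom, inferInstance,
    QuasiCompact.of_comp _ (D.obj ψ.left).hom, (hD _).1, (hD _).2, by
      rw [Category.assoc]; exact hj₁ _⟩

end Groth.Agent.H68.ZMT
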