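import Mathlib
import Groth.Agent.H68.ZMT.FiniteFP

/-!
# An open of a limit with monic transition maps is an open of a stage (helper68)

Let `X = lim X_i` be a cofiltered limit of schemes with affine *monic* transition maps (e.g. closed
immersions).  Let `V ⊆ X_i` be a quasi-compact quasi-separated open whose preimage in `X` is (the
image of) `W`, and assume that `W ⟶ V` is locally of finite presentation.  Then for some `j ⟶ i` the
morphism `W ⟶ X_j` is an open immersion onto the preimage of `V`.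
-/

set_option autoImplicit false
universe u
open CategoryTheory CategoryTheory.Limits AlgebraicGeometry Opposite

namespace Groth.Agent.H68.ZMT

variable {J : Type u} [Category.{u} J] [IsCofiltered J] (D : J ⥤ Scheme.{u}) (c : Cone D)

/-- The projections of a cofiltered limit with monic transition maps are monic. -/
theorem mono_π_app_of_mono (hc : IsLimit c) (hmono : ∀ {i j : J} (a : i ⟶ j), Mono (D.map a))
    (i : J) : Mono (c.π.app i) := by
  constructor
  intro Z a b hab
  apply hc.hom_ext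
  intro k
  have h1 : a ≫ c.π.app (IsCofiltered.min i k) = b ≫ c.π.app (IsCofiltered.min i k) := by
    haveI := hmono (IsCofiltered.minToLeft i k)
    rw [← cancel_mono (D.map (IsCofiltered.minToLeft i k)), Category.assoc, Category.assoc, c.w]
    exact hab
  rw [← c.w (IsCofiltered.minToRight i k), reassoc_of% h1]

set_option backward.isDefEq.respectTransparency false in
/-- **An open of the limit which is finitely presented over an open of a stage is an open of a
later stage.** -/
theorem exists_isOpenImmersion_π_of_mono (hc : IsLimit c)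
    [∀ {i j : J} (a : i ⟶ j), IsAffineHom (D.map a)]
    (hmono : ∀ {i j : J} (a : i ⟶ j), Mono (D.map a))
    (i : J) (V : (D.obj i).Opens) [CompactSpace (V : Scheme.{u})]
    [QuasiSeparatedSpace (V : Scheme.{u})]
    {X : Scheme.{u}} [CompactSpace X] (j₁ : X ⟶ c.pt) [IsOpenImmersion j₁]
    (hVU : c.π.app i ⁻¹ᵁ V = j₁.opensRange)
    (f₀ : X ⟶ (V : Scheme.{u})) (hf₀ : f₀ ≫ V.ι = j₁ ≫ c.π.app i)
    [LocallyOfFinitePresentation f₀] :
    ∃ ψ : Over i, IsOpenImmersion (j₁ ≫ c.π.app ψ.left) ∧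
      Set.range (j₁ ≫ c.π.app ψ.left) = ((D.map ψ.hom ⁻¹ᵁ V : (D.obj ψ.left).Opens) : Set _) := by
  haveI hπmono : Mono (c.π.app i) := mono_π_app_of_mono D c hc hmono i
  let g₀ : (V : Scheme.{u}) ⟶ D.obj i := V.ι
  have hf₀' : f₀ ≫ g₀ = j₁ ≫ c.π.app i := hf₀
  -- the base change to the limit is an isomorphism
  have hlim : IsIso (Groth.Agent.H24.limMap D c i f₀ g₀) := by
    haveI h1 : IsIso (pullback.snd (c.π.app i) (f₀ ≫ g₀)) :=
      isIso_pullback_snd_of_mono_of_fac _ _ j₁ hf₀'.symm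
    have h2 : pullback.fst (c.π.app i) (f₀ ≫ g₀) = pullback.snd (c.π.app i) (f₀ ≫ g₀) ≫ j₁ :=
      pullback_fst_eq_snd_comp_of_mono_of_fac _ _ j₁ hf₀'.symm
    have h3 := Groth.Agent.H24.limMap_fst D c i f₀ g₀
    haveI : IsOpenImmersion (Groth.Agent.H24.limMap D c i f₀ g₀) := by
      haveI : IsOpenImmersion (Groth.Agent.H24.limMap D c i f₀ g₀ ≫
          pullback.fst (c.π.app i) g₀) := by
        rw [h3, h2]; infer_instance
      exact IsOpenImmersion.of_comp _ (pullback.fst (c.π.app i) g₀)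
    haveI : Surjective (Groth.Agent.H24.limMap D c i f₀ g₀) := by
      constructor
      intro p
      have hp : (pullback.fst (c.π.app i) g₀) p ∈ c.π.app i ⁻¹ᵁ V := by
        change (c.π.app i) ((pullback.fst (c.π.app i) g₀) p) ∈ V
        rw [← Scheme.Hom.comp_apply, pullback.condition, Scheme.Hom.comp_apply]
        exact (pullback.snd (c.π.app i) g₀ p).2
      rw [hVU] at hp
      obtain ⟨x, hx⟩ := hp
      refine ⟨inv (pullback.snd (c.π.app i) (f₀ ≫ g₀)) x, ?_⟩
      apply (pullback.fst (c.π.app i) g₀).isOpenEmbedding.injective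
      have h5 : inv (pullback.snd (c.π.app i) (f₀ ≫ g₀)) ≫ Groth.Agent.H24.limMap D c i f₀ g₀ ≫
          pullback.fst (c.π.app i) g₀ = j₁ := by
        rw [h3, h2, IsIso.inv_hom_id_assoc]
      have h6 : (inv (pullback.snd (c.π.app i) (f₀ ≫ g₀)) ≫
          Groth.Agent.H24.limMap D c i f₀ g₀ ≫ pullback.fst (c.π.app i) g₀) x =
          (pullback.fst (c.π.app i) g₀) p := by
        rw [h5]; exact hx
      exact h6
    exact (isIso_iff_isOpenImmersion_and_surjective _).mpr ⟨inferInstance, inferInstance⟩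
  obtain ⟨ψ, hψ⟩ := Groth.Agent.H24.exists_isIso_stageMap_of_isIso_limMap D c i f₀ g₀ hc hlim
  haveI := hmono ψ.hom
  have hk : (j₁ ≫ c.π.app ψ.left) ≫ D.map ψ.hom = f₀ ≫ g₀ := by
    rw [Category.assoc, c.w, hf₀']
  haveI h1 : IsIso (pullback.snd (D.map ψ.hom) (f₀ ≫ g₀)) :=
    isIso_pullback_snd_of_mono_of_fac _ _ _ hk
  have h2 : pullback.fst (D.map ψ.hom) (f₀ ≫ g₀) =
      pullback.snd (D.map ψ.hom) (f₀ ≫ g₀) ≫ j₁ ≫ c.π.app ψ.left :=
    pullback_fst_eq_snd_comp_of_mono_of_fac _ _ _ hk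
  have h3 := Groth.Agent.H24.stageMap_fst D i f₀ g₀ ψ
  have h4 : j₁ ≫ c.π.app ψ.left = (inv (pullback.snd (D.map ψ.hom) (f₀ ≫ g₀)) ≫
      Groth.Agent.H24.stageMap D i f₀ g₀ ψ) ≫ pullback.fst (D.map ψ.hom) g₀ := by
    rw [Category.assoc, h3, h2, IsIso.inv_hom_id_assoc]
  refine ⟨ψ, ?_, ?_⟩
  · rw [h4]; infer_instance
  · rw [h4, Scheme.Hom.comp_base, TopCat.coe_comp, Set.range_comp,
      Set.range_eq_univ.mpr (inv (pullback.snd (D.map ψ.hom) (f₀ ≫ g₀)) ≫
        Groth.Agent.H24.stageMap D i f₀ g₀ ψ).surjective, Set.image_univ,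
      Scheme.Pullback.range_fst, Scheme.Opens.range_ι]
    rfl

end Groth.Agent.H68.ZMT
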