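import Mathlib
import Groth.Agent.H68.ZMT.Extend
import Groth.Agent.H68.ZMT.StageIso

/-!
# Extending finite finitely presented morphisms from a quasi-compact open (helper68)

Let `S` be quasi-compact and quasi-separated, `U ⊆ S` a quasi-compact open and `v : V ⟶ U` finite
and locally of finite presentation.  Then there is a morphism `π : Y ⟶ S`, finite and locally of
finite presentation, together with an open immersion `V ⟶ Y` onto `π⁻¹(U)` over `S`; if `v` is
surjective, `π` can be taken surjective.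
-/

set_option autoImplicit false
universe u
open CategoryTheory CategoryTheory.Limits AlgebraicGeometry Opposite

namespace Groth.Agent.H68.ZMT

/-- Extension of a finite morphism, with the surjectivity clause. -/
theorem exists_finite_extension_surj {S V : Scheme.{u}} [CompactSpace S] [QuasiSeparatedSpace S]
    (U : S.Opens) (hU : IsCompact (U : Set S)) (v : V ⟶ (U : Scheme.{u})) [IsFinite v] :
    ∃ (Y : Scheme.{u}) (π : Y ⟶ S) (i : V ⟶ Y), IsFinite π ∧ IsOpenImmersion i ∧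
      i ≫ π = v ≫ U.ι ∧ ((π ⁻¹ᵁ U : Y.Opens) : Set Y) = Set.range i ∧
      (Surjective v → Surjective π) := by
  obtain ⟨Y, π₀, i₀, hπ₀, hi₀, hfac₀, hpre₀⟩ := exists_finite_extension U hU v
  let Zc : TopologicalSpace.Closeds S := ⟨(U : Set S)ᶜ, U.2.isClosed_compl⟩
  let I := Scheme.IdealSheafData.vanishingIdeal Zc
  let z : I.subscheme ⟶ S := I.subschemeι
  have hz : Set.range z = (U : Set S)ᶜ := by
    rw [I.range_subschemeι]; simp [I, Zc]
  let π : Y ⨿ I.subscheme ⟶ S := coprod.desc π₀ z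
  have hinl : (coprod.inl : Y ⟶ Y ⨿ I.subscheme) ≫ π = π₀ := coprod.inl_desc _ _
  have hinr : (coprod.inr : I.subscheme ⟶ Y ⨿ I.subscheme) ≫ π = z := coprod.inr_desc _ _
  have hw : (i₀ ≫ coprod.inl) ≫ π = v ≫ U.ι := by
    rw [Category.assoc, hinl, hfac₀]
  refine ⟨Y ⨿ I.subscheme, π, i₀ ≫ coprod.inl, inferInstance, inferInstance, hw, ?_, ?_⟩
  · ext y
    constructor
    · intro hy
      have hy' : π y ∈ U := hy
      have hx : y ∈ Set.range (coprod.inl : Y ⟶ Y ⨿ I.subscheme) ∪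
          Set.range (coprod.inr : I.subscheme ⟶ Y ⨿ I.subscheme) := by
        have := (isCompl_range_inl_inr Y I.subscheme).sup_eq_top
        have h' : y ∈ (⊤ : Set ↥(Y ⨿ I.subscheme)) := Set.mem_univ _
        rw [← this] at h'
        exact h'
      rcases hx with ⟨y₀, rfl⟩ | ⟨ζ, rfl⟩
      · have h1 : π₀ y₀ ∈ U := by
          rw [← hinl, Scheme.Hom.comp_apply]; exact hy'
        have h2 : y₀ ∈ ((π₀ ⁻¹ᵁ U : Y.Opens) : Set Y) := h1
        rw [hpre₀] at h2
        obtain ⟨x, rfl⟩ := h2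
        exact ⟨x, by rw [Scheme.Hom.comp_apply]⟩
      · exfalso
        have h3 : z ζ ∈ (U : Set S)ᶜ := by rw [← hz]; exact ⟨ζ, rfl⟩
        apply h3
        rw [← hinr, Scheme.Hom.comp_apply]
        exact hy'
    · rintro ⟨x, rfl⟩
      change π ((i₀ ≫ coprod.inl) x) ∈ U
      rw [← Scheme.Hom.comp_apply, hw, Scheme.Hom.comp_apply]
      exact (v x).2
  · intro hv
    refine ⟨fun s ↦ ?_⟩
    by_cases hs : s ∈ U
    · obtain ⟨x, hx⟩ := v.surjective ⟨s, hs⟩
      refine ⟨(i₀ ≫ coprod.inl) x, ?_⟩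
      rw [← Scheme.Hom.comp_apply, hw, Scheme.Hom.comp_apply, hx]
      rfl
    · have : s ∈ Set.range z := by rw [hz]; exact hs
      obtain ⟨ζ, rfl⟩ := this
      exact ⟨(coprod.inr : I.subscheme ⟶ Y ⨿ I.subscheme) ζ,
        by rw [← Scheme.Hom.comp_apply, hinr]⟩

set_option backward.isDefEq.respectTransparency false in
/-- **Extension of a finite finitely presented morphism** from a quasi-compact open of a qcqs
scheme. -/
theorem exists_finite_fp_extension {S V : Scheme.{u}} [CompactSpace S] [QuasiSeparatedSpace S]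
    (U : S.Opens) (hU : IsCompact (U : Set S)) (v : V ⟶ (U : Scheme.{u})) [IsFinite v]
    [LocallyOfFinitePresentation v] :
    ∃ (Y : Scheme.{u}) (π : Y ⟶ S) (i : V ⟶ Y), IsFinite π ∧ LocallyOfFinitePresentation π ∧
      IsOpenImmersion i ∧ i ≫ π = v ≫ U.ι ∧ ((π ⁻¹ᵁ U : Y.Opens) : Set Y) = Set.range i ∧
      (Surjective v → Surjective π) := by
  classical
  obtain ⟨Y₀, π₀, i₀, hπ₀, hi₀, hfac₀, hpre₀, hsurj₀⟩ := exists_finite_extension_surj U hU v
  obtain ⟨I, _, _, hne, D, c, hc, hD, hcl, ⟨e⟩⟩ := Groth.Agent.H20.NA.exists_limit_finite_fp π₀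
  haveI : IsCofiltered Iᵒᵖ := inferInstance
  let D' : Iᵒᵖ ⥤ Scheme.{u} := D ⋙ Over.forget S
  let c' : Cone D' := (Over.forget S).mapCone c
  have hc' : IsLimit c' := isLimitOfPreserves (Over.forget S) hc
  have hcl' : ∀ {i j : Iᵒᵖ} (a : i ⟶ j), IsClosedImmersion (D'.map a) := fun a => hcl _ _ a
  have haff : ∀ {i j : Iᵒᵖ} (a : i ⟶ j), IsAffineHom (D'.map a) := fun a => by
    haveI := hcl' a; infer_instance
  have hmono : ∀ {i j : Iᵒᵖ} (a : i ⟶ j), Mono (D'.map a) := fun a => by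
    haveI := hcl' a; infer_instance
  haveI : CompactSpace (U : Scheme.{u}) := isCompact_iff_compactSpace.mp hU
  haveI : CompactSpace V := QuasiCompact.compactSpace_of_compactSpace v
  haveI : IsIso e.inv.left := (Over.forget S).map_isIso e.inv
  let j₁ : V ⟶ c'.pt := i₀ ≫ e.inv.left
  haveI : IsOpenImmersion j₁ := inferInstance
  let p : ∀ k, D'.obj k ⟶ S := fun k => (D.obj k).hom
  let q : c'.pt ⟶ S := c.pt.hom
  let eh : c'.pt ⟶ Y₀ := e.hom.left
  let ei : Y₀ ⟶ c'.pt := e.inv.left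
  have hehi : eh ≫ ei = 𝟙 _ := by
    change e.hom.left ≫ e.inv.left = 𝟙 _
    rw [← Over.comp_left, e.hom_inv_id]; rfl
  have heih : ei ≫ eh = 𝟙 _ := by
    change e.inv.left ≫ e.hom.left = 𝟙 _
    rw [← Over.comp_left, e.inv_hom_id]; rfl
  have hcπ : ∀ k, c'.π.app k ≫ p k = q := fun k => Over.w (c.π.app k)
  have he : ei ≫ q = π₀ := Over.w e.inv
  have he' : eh ≫ π₀ = q := Over.w e.hom
  have hj₁ : ∀ k, j₁ ≫ c'.π.app k ≫ p k = v ≫ U.ι := by
    intro k
    rw [hcπ]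
    change (i₀ ≫ ei) ≫ q = _
    rw [Category.assoc, he, hfac₀]
  obtain ⟨i⟩ : Nonempty Iᵒᵖ := ⟨op hne.some⟩
  haveI : IsFinite (p i) := (hD i).1
  let Vi : (D'.obj i).Opens := p i ⁻¹ᵁ U
  have hVi : IsCompact (Vi : Set (D'.obj i)) := (p i).isCompact_preimage hU
  haveI : CompactSpace (Vi : Scheme.{u}) := isCompact_iff_compactSpace.mp hVi
  haveI : QuasiSeparatedSpace (Vi : Scheme.{u}) := by
    haveI : QuasiSeparatedSpace (D'.obj i : Scheme.{u}) :=
      quasiSeparatedSpace_of_quasiSeparated (p i)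
    exact quasiSeparatedSpace_of_quasiSeparated Vi.ι
  have hVU : c'.π.app i ⁻¹ᵁ Vi = j₁.opensRange := by
    ext x
    change (p i) (c'.π.app i x) ∈ U ↔ x ∈ Set.range j₁
    have hx1 : (p i) (c'.π.app i x) = π₀ (eh x) := by
      have h := hcπ i
      rw [← he'] at h
      exact congrArg (fun φ : c'.pt ⟶ S => φ x) h
    rw [hx1]
    constructor
    · intro hx
      have h2 : eh x ∈ ((π₀ ⁻¹ᵁ U : Y₀.Opens) : Set Y₀) := hx
      rw [hpre₀] at h2
      obtain ⟨w, hw⟩ := h2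
      refine ⟨w, ?_⟩
      change (i₀ ≫ ei) w = x
      rw [Scheme.Hom.comp_apply, hw, ← Scheme.Hom.comp_apply, hehi]; rfl
    · rintro ⟨w, rfl⟩
      have h3 : eh ((i₀ ≫ ei) w) = i₀ w := by
        change (i₀ ≫ ei ≫ eh) w = _
        rw [heih, Category.comp_id]
      have h4 : π₀ (i₀ w) = U.ι (v w) := by
        change (i₀ ≫ π₀) w = _
        rw [hfac₀]; rfl
      change π₀ (eh ((i₀ ≫ ei) w)) ∈ U
      rw [h3, h4]
      exact (v w).2
  have hrange : Set.range (j₁ ≫ c'.π.app i) ⊆ Set.range Vi.ι := by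
    rintro _ ⟨x, rfl⟩
    have hx : j₁ x ∈ c'.π.app i ⁻¹ᵁ Vi := by
      rw [hVU]; exact ⟨x, rfl⟩
    rw [Scheme.Opens.range_ι]
    exact hx
  let f₀ : V ⟶ (Vi : Scheme.{u}) := IsOpenImmersion.lift Vi.ι (j₁ ≫ c'.π.app i) hrange
  have hf₀ : f₀ ≫ Vi.ι = j₁ ≫ c'.π.app i := IsOpenImmersion.lift_fac _ _ _
  haveI : LocallyOfFinitePresentation f₀ := by
    refine Groth.Agent.H50.locallyOfFinitePresentation_of_comp f₀ (Vi.ι ≫ p i) ?_ ?_
    · rw [reassoc_of% hf₀, hj₁]; infer_instance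
    · haveI : LocallyOfFinitePresentation (p i) := (hD i).2
      infer_instance
  obtain ⟨ψ, hψ1, hψ2⟩ := exists_isOpenImmersion_π_of_mono D' c' hc' hmono i Vi j₁ hVU f₀ hf₀
  have h1 : D'.map ψ.hom ≫ p i = p ψ.left := Over.w (D.map ψ.hom)
  have h2 : ((p ψ.left ⁻¹ᵁ U : (D'.obj ψ.left).Opens) : Set (D'.obj ψ.left)) =
      Set.range (j₁ ≫ c'.π.app ψ.left) := by
    rw [hψ2, ← h1]; rfl
  refine ⟨D'.obj ψ.left, p ψ.left, j₁ ≫ c'.π.app ψ.left, (hD _).1, (hD _).2,
    hψ1, by rw [Category.assoc]; exact hj₁ _, h2, ?_⟩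
  · intro hv
    haveI : Surjective π₀ := hsurj₀ hv
    haveI : IsIso eh := ⟨ei, hehi, heih⟩
    haveI : Surjective (c'.π.app ψ.left ≫ p ψ.left) := by
      rw [hcπ, ← he']; infer_instance
    exact Surjective.of_comp (c'.π.app ψ.left) (p ψ.left)

end Groth.Agent.H68.ZMT
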