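import Mathlib
import Groth.Agent.H68.ZMT.ExtendFP
import Groth.Agent.H7.EtaleDominated

/-!
# Étale covers of a qcqs scheme are dominated by finite finitely presented covers (helper68)

For a surjective étale morphism `g : U ⟶ X` with `X` quasi-compact and quasi-separated there is a
surjective, finite, finitely presented morphism `Y ⟶ X` which factors through `U` Zariski locally
on `Y`.

Proof: locally on `X` this is helper7's `etale_nbhd_dominated_by_finite_flat`; the local finite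
covers extend to finite finitely presented surjective covers of `X` (`H68/ZMT/ExtendFP`), and a
fibre product of finitely many of them works.
-/

set_option autoImplicit false
universe u
open CategoryTheory CategoryTheory.Limits AlgebraicGeometry Opposite

namespace Groth.Agent.H68.ZMT

/-- `π : Y ⟶ X` factors through `g : U ⟶ X` on an open neighbourhood of `y`. -/
def LocFac {U X Y : Scheme.{u}} (g : U ⟶ X) (π : Y ⟶ X) (y : Y) : Prop :=
  ∃ (V : Y.Opens) (h : (V : Scheme.{u}) ⟶ U), y ∈ V ∧ h ≫ g = V.ι ≫ π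

theorem isOpen_locFac {U X Y : Scheme.{u}} (g : U ⟶ X) (π : Y ⟶ X) :
    IsOpen {y : Y | LocFac g π y} := by
  rw [isOpen_iff_forall_mem_open]
  rintro y ⟨V, h, hy, hh⟩
  exact ⟨V, fun z hz => ⟨V, h, hz, hh⟩, V.isOpen, hy⟩

theorem LocFac.precomp {U X Y Y' : Scheme.{u}} {g : U ⟶ X} {π : Y ⟶ X} (φ : Y' ⟶ Y) {y' : Y'}
    (h : LocFac g π (φ y')) : LocFac g (φ ≫ π) y' := by
  obtain ⟨V, h, hy, hh⟩ := h
  refine ⟨φ ⁻¹ᵁ V, (φ ∣_ V) ≫ h, hy, ?_⟩
  rw [Category.assoc, hh, morphismRestrict_ι_assoc]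

/-- The property "there is a finite finitely presented surjective cover of `X` which factors
through `g` locally at all points over `N`". -/
def Dominated {U X : Scheme.{u}} (g : U ⟶ X) (N : Set X) : Prop :=
  ∃ (Y : Scheme.{u}) (π : Y ⟶ X), Surjective π ∧ IsFinite π ∧ LocallyOfFinitePresentation π ∧
    ∀ y : Y, π y ∈ N → LocFac g π y

theorem dominated_empty {U X : Scheme.{u}} (g : U ⟶ X) : Dominated g ∅ :=
  ⟨X, 𝟙 X, inferInstance, inferInstance, inferInstance, fun _ hy => hy.elim⟩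

theorem Dominated.mono {U X : Scheme.{u}} {g : U ⟶ X} {N N' : Set X} (h : N ⊆ N')
    (hN' : Dominated g N') : Dominated g N := by
  obtain ⟨Y, π, h1, h2, h3, h4⟩ := hN'
  exact ⟨Y, π, h1, h2, h3, fun y hy => h4 y (h hy)⟩

theorem Dominated.union {U X : Scheme.{u}} {g : U ⟶ X} {N₁ N₂ : Set X}
    (h₁ : Dominated g N₁) (h₂ : Dominated g N₂) : Dominated g (N₁ ∪ N₂) := by
  obtain ⟨Y₁, π₁, hs₁, hf₁, hp₁, hl₁⟩ := h₁
  obtain ⟨Y₂, π₂, hs₂, hf₂, hp₂, hl₂⟩ := h₂
  refine ⟨pullback π₁ π₂, pullback.fst π₁ π₂ ≫ π₁, inferInstance, inferInstance, inferInstance,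
    ?_⟩
  rintro y (hy | hy)
  · exact LocFac.precomp (pullback.fst π₁ π₂) (hl₁ _ hy)
  · rw [pullback.condition] at hy ⊢
    exact LocFac.precomp (pullback.snd π₁ π₂) (hl₂ _ hy)

/-- The local statement. -/
theorem exists_nhds_dominated {U X : Scheme.{u}} (g : U ⟶ X) [Etale g] [Surjective g]
    [CompactSpace X] [QuasiSeparatedSpace X] (x : X) :
    ∃ N : Set X, IsOpen N ∧ x ∈ N ∧ Dominated g N := by
  obtain ⟨u, hu⟩ := g.surjective x
  obtain ⟨V, T, πT, hxV, hV, hsT, hfT, -, hpT, hloc⟩ :=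
    Groth.Agent.H7.etale_nbhd_dominated_by_finite_flat g u x hu
  obtain ⟨Y, π, i, hfin, hfp, hi, hfac, hpre, hsurj⟩ :=
    exists_finite_fp_extension V hV.isCompact πT
  haveI : Surjective π := hsurj hsT
  let O : Set Y := {y : Y | LocFac g π y}
  have hO : IsOpen O := isOpen_locFac g π
  have hfib : ∀ y : Y, π y = x → y ∈ O := by
    intro y hy
    have hyV : y ∈ ((π ⁻¹ᵁ V : Y.Opens) : Set Y) := by
      change π y ∈ V
      rw [hy]; exact hxV
    rw [hpre] at hyV
    obtain ⟨t, rfl⟩ := hyV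
    have ht : V.ι (πT t) = x := by
      rw [← Scheme.Hom.comp_apply, ← hfac, Scheme.Hom.comp_apply, hy]
    obtain ⟨W, h, htW, hh, -⟩ := hloc t ht
    refine ⟨i ''ᵁ W, (i.isoImage W).inv ≫ h, ⟨t, htW, rfl⟩, ?_⟩
    rw [Category.assoc, hh, ← hfac, Scheme.Hom.isoImage_inv_ι_assoc]
  have hcl : IsClosed (π '' Oᶜ) := π.isClosedMap _ hO.isClosed_compl
  refine ⟨(π '' Oᶜ)ᶜ, hcl.isOpen_compl, ?_, Y, π, inferInstance, hfin, hfp, ?_⟩
  · rintro ⟨y, hyO, hy⟩
    exact hyO (hfib y hy)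
  · intro y hy
    by_contra hyO
    exact hy ⟨y, hyO, rfl⟩

/-- **Étale covers are dominated by finite finitely presented covers.** -/
theorem exists_finite_fp_dominating {U X : Scheme.{u}} (g : U ⟶ X) [Etale g] [Surjective g]
    [CompactSpace X] [QuasiSeparatedSpace X] :
    ∃ (Y : Scheme.{u}) (π : Y ⟶ X), Surjective π ∧ IsFinite π ∧ LocallyOfFinitePresentation π ∧
      ∀ y : Y, ∃ (V : Y.Opens) (h : (V : Scheme.{u}) ⟶ U), y ∈ V ∧ h ≫ g = V.ι ≫ π := by
  have key : Dominated g Set.univ := by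
    refine isCompact_univ.induction_on (p := Dominated g) (dominated_empty g)
      (fun s t hst ht => ht.mono hst) (fun s t hs ht => hs.union ht) ?_
    intro x _
    obtain ⟨N, hN, hxN, hdom⟩ := exists_nhds_dominated g x
    exact ⟨N, mem_nhdsWithin_of_mem_nhds (hN.mem_nhds hxN), hdom⟩
  obtain ⟨Y, π, h1, h2, h3, h4⟩ := key
  exact ⟨Y, π, h1, h2, h3, fun y => h4 y (Set.mem_univ _)⟩

end Groth.Agent.H68.ZMT
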