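import Mathlib
import Groth.Agent.H68.ZMT.EtaleFinite
import Groth.Agent.S1379

/-!
# fppf covers of a qcqs scheme are dominated by finite finitely presented covers (helper68)

For a surjective flat morphism locally of finite presentation `g : U ⟶ S` with `S` quasi-compact and
quasi-separated there is a surjective, finite, finitely presented morphism `Y ⟶ S` which factors
through `U` Zariski locally on `Y`.

Proof: by helper87's S1379, étale locally on `S` there is a finite flat finitely presented cover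
factoring through `U` locally.  The étale covers are dominated by finite finitely presented covers
(`H68/ZMT/EtaleFinite`), and finite finitely presented covers of quasi-compact opens extend
(`H68/ZMT/ExtendFP`); a local-to-global principle (`dominated_univ_of_local`) used twice glues
everything.
-/

set_option autoImplicit false
universe u
open CategoryTheory CategoryTheory.Limits AlgebraicGeometry Opposite

namespace Groth.Agent.H68.ZMT

theorem LocFac.of_isOpenImmersion {U X T Y : Scheme.{u}} {g : U ⟶ X} (i : T ⟶ Y)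
    [IsOpenImmersion i] (π : Y ⟶ X) (ρ : T ⟶ X) (hfac : i ≫ π = ρ) {t : T}
    (h : LocFac g ρ t) : LocFac g π (i t) := by
  obtain ⟨W, h, htW, hh⟩ := h
  refine ⟨i ''ᵁ W, (i.isoImage W).inv ≫ h, ⟨t, htW, rfl⟩, ?_⟩
  rw [Category.assoc, hh, ← hfac, Scheme.Hom.isoImage_inv_ι_assoc]

/-- **Local-to-global principle** for domination by finite finitely presented covers. -/
theorem dominated_univ_of_local {U X : Scheme.{u}} (g : U ⟶ X) [CompactSpace X]
    [QuasiSeparatedSpace X]
    (hloc : ∀ x : X, ∃ (V : X.Opens) (T : Scheme.{u}) (πT : T ⟶ (V : Scheme.{u})), x ∈ V ∧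
      IsCompact (V : Set X) ∧ Surjective πT ∧ IsFinite πT ∧ LocallyOfFinitePresentation πT ∧
      ∀ t : T, LocFac g (πT ≫ V.ι) t) : Dominated g Set.univ := by
  refine isCompact_univ.induction_on (p := Dominated g) (dominated_empty g)
    (fun s t hst ht => ht.mono hst) (fun s t hs ht => hs.union ht) ?_
  intro x _
  obtain ⟨V, T, πT, hxV, hV, hsT, hfT, hpT, hT⟩ := hloc x
  obtain ⟨Y, π, i, hfin, hfp, hi, hfac, hpre, hsurj⟩ := exists_finite_fp_extension V hV πT
  refine ⟨V, mem_nhdsWithin_of_mem_nhds (V.isOpen.mem_nhds hxV), Y, π, hsurj hsT, hfin, hfp, ?_⟩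
  intro y hy
  have hyV : y ∈ ((π ⁻¹ᵁ V : Y.Opens) : Set Y) := hy
  rw [hpre] at hyV
  obtain ⟨t, rfl⟩ := hyV
  exact LocFac.of_isOpenImmersion i π (πT ≫ V.ι) hfac (hT t)

set_option backward.isDefEq.respectTransparency false in
/-- **fppf covers are dominated by finite finitely presented covers.** -/
theorem exists_finite_fp_dominating_fppf {U S : Scheme.{u}} (g : U ⟶ S) [Flat g]
    [LocallyOfFinitePresentation g] [Surjective g] [CompactSpace S] [QuasiSeparatedSpace S] :
    ∃ (Y : Scheme.{u}) (π : Y ⟶ S), Surjective π ∧ IsFinite π ∧ LocallyOfFinitePresentation π ∧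
      ∀ y : Y, ∃ (V : Y.Opens) (h : (V : Scheme.{u}) ⟶ U), y ∈ V ∧ h ≫ g = V.ι ≫ π := by
  have key : Dominated g Set.univ := by
    refine dominated_univ_of_local g (fun s => ?_)
    obtain ⟨S', V, e, π, he, hs, hπs, hπf, hπfl, hπp, hloc⟩ := Groth.Agent.S1379.result g s
    -- an affine open neighbourhood of `s` inside the image of `e`
    have hopen : IsOpen (Set.range e) := e.isOpenMap.isOpen_range
    obtain ⟨N, hN, hsN, hNle⟩ : ∃ N : S.Opens, IsAffineOpen N ∧ s ∈ N ∧
        (N : Set S) ⊆ Set.range e := by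
      obtain ⟨_, ⟨N, hN, rfl⟩, hsN, hNle⟩ :=
        S.isBasis_affineOpens.exists_subset_of_mem_open hs hopen
      exact ⟨N, hN, hsN, hNle⟩
    let e' : (e ⁻¹ᵁ N : Scheme.{u}) ⟶ (N : Scheme.{u}) := e ∣_ N
    have he'ι : e' ≫ N.ι = (e ⁻¹ᵁ N).ι ≫ e := morphismRestrict_ι e N
    haveI : Etale e' := IsZariskiLocalAtTarget.restrict ‹Etale e› N
    haveI : Surjective e' := by
      constructor
      intro n
      obtain ⟨x, hx⟩ := hNle n.2
      have hxN : x ∈ e ⁻¹ᵁ N := by
        change e x ∈ N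
        rw [hx]; exact n.2
      refine ⟨⟨x, hxN⟩, ?_⟩
      apply N.ι.isOpenEmbedding.injective
      rw [← Scheme.Hom.comp_apply, he'ι, Scheme.Hom.comp_apply]
      exact hx
    haveI : IsAffine (N : Scheme.{u}) := hN
    obtain ⟨Y, πY, hYs, hYf, hYp, hYloc⟩ := exists_finite_fp_dominating e'
    haveI : CompactSpace Y := QuasiCompact.compactSpace_of_compactSpace πY
    haveI : QuasiSeparatedSpace Y := quasiSeparatedSpace_of_quasiSeparated πY
    -- second level: dominate `Y ×_S U ⟶ Y`
    let gY : pullback (πY ≫ N.ι) g ⟶ Y := pullback.fst (πY ≫ N.ι) g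
    have key2 : Dominated gY Set.univ := by
      refine dominated_univ_of_local gY (fun y => ?_)
      obtain ⟨W, h, hyW, hh⟩ := hYloc y
      obtain ⟨W', hW', hyW', hle⟩ : ∃ W' : Y.Opens, IsAffineOpen W' ∧ y ∈ W' ∧ W' ≤ W := by
        obtain ⟨_, ⟨W', hW', rfl⟩, hyW', hW'le⟩ :=
          Y.isBasis_affineOpens.exists_subset_of_mem_open hyW W.isOpen
        exact ⟨W', hW', hyW', hW'le⟩
      let h' : (W' : Scheme.{u}) ⟶ S' := Y.homOfLE hle ≫ h ≫ (e ⁻¹ᵁ N).ι
      have hh' : h' ≫ e = W'.ι ≫ πY ≫ N.ι := by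
        change (Y.homOfLE hle ≫ h ≫ (e ⁻¹ᵁ N).ι) ≫ e = _
        rw [Category.assoc, Category.assoc, ← he'ι, reassoc_of% hh, Scheme.homOfLE_ι_assoc]
      refine ⟨W', pullback h' π, pullback.fst h' π, hyW', hW'.isCompact, inferInstance,
        inferInstance, inferInstance, ?_⟩
      intro t
      obtain ⟨Wv, r, hvW, hr⟩ := hloc (pullback.snd h' π t)
      have hcond : ((pullback.snd h' π ⁻¹ᵁ Wv).ι ≫ pullback.fst h' π ≫ W'.ι) ≫ (πY ≫ N.ι) =
          ((pullback.snd h' π ∣_ Wv) ≫ r) ≫ g := by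
        rw [Category.assoc, Category.assoc, Category.assoc, hr, morphismRestrict_ι_assoc,
          ← reassoc_of% (pullback.condition (f := h') (g := π)), hh']
      refine ⟨pullback.snd h' π ⁻¹ᵁ Wv, pullback.lift _ _ hcond, hvW, ?_⟩
      exact pullback.lift_fst _ _ _
    obtain ⟨Z, πZ, hZs, hZf, hZp, hZloc⟩ := key2
    refine ⟨N, Z, πZ ≫ πY, hsN, hN.isCompact, inferInstance, inferInstance, inferInstance, ?_⟩
    intro z
    obtain ⟨Wz, k, hzW, hk⟩ := hZloc z (Set.mem_univ _)
    refine ⟨Wz, k ≫ pullback.snd (πY ≫ N.ι) g, hzW, ?_⟩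
    rw [Category.assoc, ← pullback.condition, reassoc_of% hk, Category.assoc]
  obtain ⟨Y, π, h1, h2, h3, h4⟩ := key
  exact ⟨Y, π, h1, h2, h3, fun y => h4 y (Set.mem_univ _)⟩

end Groth.Agent.H68.ZMT
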