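import Groth.Agent.H68.ZMT.Extend

/-!
# Extension of a finite morphism over a quasi-compact open of an affine scheme

Corollary of `exists_finite_extension`: the extension is `Spec` of a finite algebra and the square
is cartesian.
-/

set_option autoImplicit false
universe u
open CategoryTheory CategoryTheory.Limits AlgebraicGeometry TopologicalSpace Opposite

namespace Groth.Agent.H68.ZMT

theorem exists_finite_algebra_extension (A : Type u) [CommRing A]
    (U : (Spec (CommRingCat.of A)).Opens) (hU : IsCompact (U : Set (Spec (CommRingCat.of A))))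
    (U' : Scheme.{u}) (g : U' ⟶ (U : Scheme.{u})) [IsFinite g] :
    ∃ (B : Type u) (_ : CommRing B) (_ : Algebra A B) (i : U' ⟶ Spec (CommRingCat.of B)),
      Module.Finite A B ∧
        IsPullback i g (Spec.map (CommRingCat.ofHom (algebraMap A B))) U.ι := by
  obtain ⟨Y, π, i, hπ, hi, hfac, hpre⟩ := exists_finite_extension U hU g
  have hY : IsAffine Y := isAffine_of_isAffineHom π
  let φ : CommRingCat.of A ⟶ Γ(Y, ⊤) := (Scheme.ΓSpecIso (CommRingCat.of A)).inv ≫ π.appTop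
  have hφ : Y.isoSpec.inv ≫ π = Spec.map φ := by
    rw [← Scheme.isoSpec_inv_naturality, Scheme.isoSpec_Spec_inv, ← Spec.map_comp]
  have hfin : IsFinite (Spec.map φ) := by
    rw [← hφ]; infer_instance
  have hφfin : φ.hom.Finite := (IsFinite.SpecMap_iff φ).1 hfin
  letI : Algebra A Γ(Y, ⊤) := φ.hom.toAlgebra
  have hmap : Spec.map (CommRingCat.ofHom (algebraMap A Γ(Y, ⊤))) = Spec.map φ := rfl
  refine ⟨Γ(Y, ⊤), inferInstance, inferInstance, i ≫ Y.isoSpec.hom, hφfin, ?_⟩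
  rw [hmap, ← hφ]
  have hw : (i ≫ Y.isoSpec.hom) ≫ (Y.isoSpec.inv ≫ π) = g ≫ U.ι := by
    simp [hfac]
  refine (IsOpenImmersion.isPullback g (i ≫ Y.isoSpec.hom) U.ι (Y.isoSpec.inv ≫ π) hw ?_).flip
  rw [Scheme.Opens.opensRange_ι]
  ext y
  have h1 : y ∈ (Y.isoSpec.inv ≫ π) ⁻¹ᵁ U ↔ Y.isoSpec.inv y ∈ ((π ⁻¹ᵁ U : Y.Opens) : Set Y) := by
    simp [Scheme.Hom.comp_apply]
  rw [SetLike.mem_coe, h1, hpre]
  constructor
  · rintro ⟨x, hx⟩
    refine ⟨x, ?_⟩
    rw [Scheme.Hom.comp_apply, hx, ← Scheme.Hom.comp_apply, Iso.inv_hom_id]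
    rfl
  · rintro ⟨x, rfl⟩
    refine ⟨x, ?_⟩
    rw [Scheme.Hom.comp_apply, ← Scheme.Hom.comp_apply (Y.isoSpec.hom), Iso.hom_inv_id]
    rfl

end Groth.Agent.H68.ZMT
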