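import Mathlib
import Groth.Agent.H68.ZMT.Extend
import Groth.Agent.H20.EffCartierInterior
import Groth.Agent.H20.ModPairFlat

/-!
# Extending a finite cover of the interior of a modulus pair (helper68)

Let `(S, I)` be a modulus pair with `S` quasi-compact and quasi-separated and interior `U`, and
`t₀ : T₀ ⟶ U` finite and surjective.  The scheme theoretic closure `T` of `T₀` in a finite
`S`-scheme containing `T₀` as an open subscheme (Zariski's main theorem) is finite and surjective
over `S`, contains `T₀` as the preimage of `U`, and the pullback of `I` to `T` is again effective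
Cartier because `T₀` is scheme theoretically dense in `T`.
-/

set_option autoImplicit false
universe u
open CategoryTheory CategoryTheory.Limits AlgebraicGeometry Opposite

namespace Groth.Agent.H68.ZMT

/-- The morphism onto the scheme theoretic image is scheme theoretically dominant. -/
theorem isSchemeTheoreticallyDominant_toImage {X Y : Scheme.{u}} (f : X ⟶ Y) [QuasiCompact f] :
    IsSchemeTheoreticallyDominant f.toImage := by
  refine ⟨?_⟩
  refine Scheme.IdealSheafData.ext_of_iSup_eq_top
    (fun U : Y.affineOpens =>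
      (⟨f.imageι ⁻¹ᵁ U.1, U.2.preimage f.imageι⟩ : f.image.affineOpens)) ?_ ?_
  · rw [eq_top_iff]
    intro x _
    obtain ⟨_, ⟨V, hV, rfl⟩, hxV, -⟩ := Y.isBasis_affineOpens.exists_subset_of_mem_open
      (Set.mem_univ (f.imageι x)) isOpen_univ
    exact TopologicalSpace.Opens.mem_iSup.mpr ⟨⟨V, hV⟩, hxV⟩
  · intro U
    rw [Scheme.Hom.ker_apply, Scheme.IdealSheafData.ideal_bot]
    exact (RingHom.injective_iff_ker_eq_bot _).mp (f.toImage_app_injective U)

/-- Extension of a finite morphism from a quasi-compact open, scheme theoretically dense form. -/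
theorem exists_finite_extension_dominant {S V : Scheme.{u}} [CompactSpace S]
    [QuasiSeparatedSpace S] (U : S.Opens) (hU : IsCompact (U : Set S))
    (v : V ⟶ (U : Scheme.{u})) [IsFinite v] :
    ∃ (Y : Scheme.{u}) (π : Y ⟶ S) (i : V ⟶ Y), IsFinite π ∧ IsOpenImmersion i ∧
      IsSchemeTheoreticallyDominant i ∧ QuasiCompact i ∧
      i ≫ π = v ≫ U.ι ∧ ((π ⁻¹ᵁ U : Y.Opens) : Set Y) = Set.range i := by
  haveI : CompactSpace (U : Scheme.{u}) := isCompact_iff_compactSpace.mp hU
  haveI : QuasiCompact U.ι := inferInstance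
  obtain ⟨T, φ, π, hφ, hπ, -, hfac⟩ := exists_immersion_finite_fp (v ≫ U.ι)
  haveI : QuasiCompact φ := by
    haveI : QuasiCompact (φ ≫ π) := by rw [hfac]; infer_instance
    exact QuasiCompact.of_comp φ π
  have hfac' : φ.toImage ≫ φ.imageι ≫ π = v ≫ U.ι := by
    rw [Scheme.Hom.toImage_imageι_assoc, hfac]
  refine ⟨φ.image, φ.imageι ≫ π, φ.toImage, inferInstance, inferInstance,
    isSchemeTheoreticallyDominant_toImage φ, inferInstance, hfac', ?_⟩
  rw [range_eq_preimage_of_dominant U v φ.toImage (φ.imageι ≫ π) hfac']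
  exact Scheme.Hom.coe_opensRange _

/-- **Extension of a finite surjective cover of the interior of a modulus pair.** -/
theorem exists_modPair_extension {S : Scheme.{u}} [CompactSpace S] [QuasiSeparatedSpace S]
    (I : S.IdealSheafData) (hI : BlowUp.IsEffCartierIdeal I) {T₀ : Scheme.{u}}
    (t₀ : T₀ ⟶ (ModPair.interior I : Scheme.{u})) [IsFinite t₀] [Surjective t₀] :
    ∃ (T : Scheme.{u}) (t : T ⟶ S) (j : T₀ ⟶ T), IsFinite t ∧ Surjective t ∧
      BlowUp.IsEffCartierIdeal (I.comap t) ∧ IsOpenImmersion j ∧
      Set.range j = t ⁻¹' (ModPair.interior I : Set S) ∧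
      j ≫ t = t₀ ≫ (ModPair.interior I).ι := by
  haveI haff : IsAffineHom (ModPair.interior I).ι :=
    Groth.Agent.H20.ModPairFlat.isAffineHom_interior_ι I hI
  haveI hdomU : IsSchemeTheoreticallyDominant (ModPair.interior I).ι :=
    Groth.Agent.H20.ModPairFlat.isSchemeTheoreticallyDominant_interior_ι I hI
  have hcU : CompactSpace (ModPair.interior I : Scheme.{u}) :=
    QuasiCompact.compactSpace_of_compactSpace (ModPair.interior I).ι
  have hU : IsCompact ((ModPair.interior I : S.Opens) : Set S) :=
    isCompact_iff_compactSpace.mpr hcU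
  obtain ⟨T, t, j, hfin, hj, hjd, hjq, hfac, hpre⟩ :=
    exists_finite_extension_dominant (ModPair.interior I) hU t₀
  -- the preimage of the interior is scheme theoretically dense in `T`
  have hrange : Set.range (t ⁻¹ᵁ ModPair.interior I).ι = Set.range j := by
    rw [Scheme.Opens.range_ι, hpre]
  haveI : IsSchemeTheoreticallyDominant (t ⁻¹ᵁ ModPair.interior I).ι := by
    have h1 : (IsOpenImmersion.isoOfRangeEq (t ⁻¹ᵁ ModPair.interior I).ι j hrange).hom ≫ j =
        (t ⁻¹ᵁ ModPair.interior I).ι := IsOpenImmersion.isoOfRangeEq_hom_fac _ _ _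
    rw [← h1]
    infer_instance
  have hcart := (Groth.Agent.H20.EffCartierInterior.main I hI t).2
  refine ⟨T, t, j, hfin, ?_, hcart, hj, ?_, hfac⟩
  · -- surjectivity
    have hcl : IsClosed (Set.range t) := t.isClosedMap.isClosed_range
    have hsub : ((ModPair.interior I : S.Opens) : Set S) ⊆ Set.range t := by
      intro s hs
      obtain ⟨x, hx⟩ := t₀.surjective ⟨s, hs⟩
      refine ⟨j x, ?_⟩
      rw [← Scheme.Hom.comp_apply, hfac, Scheme.Hom.comp_apply, hx]
      rfl
    have hdense : Dense ((ModPair.interior I : S.Opens) : Set S) := by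
      have h2 : DenseRange (ModPair.interior I).ι := (ModPair.interior I).ι.denseRange
      rwa [DenseRange, Scheme.Opens.range_ι] at h2
    refine ⟨fun s => ?_⟩
    have h3 : s ∈ closure ((ModPair.interior I : S.Opens) : Set S) := hdense s
    exact (closure_minimal hsub hcl) h3
  · rw [← hpre]
    rfl

end Groth.Agent.H68.ZMT
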