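import Mathlib
import Groth.Agent.H68.ZMT.Finite

/-!
# Pointwise criterion for "immersion followed by finite" (helper68)
-/

set_option autoImplicit false
universe u
open CategoryTheory CategoryTheory.Limits AlgebraicGeometry

namespace Groth.Agent.H68.ZMT

/-- the factorization "immersion followed by finite" is stable under base change. -/
theorem exists_immersion_finite_baseChange {X Y Y' S : Scheme.{u}} (f : X ⟶ Y) (f' : X ⟶ Y')
    (u : Y' ⟶ Y) [IsImmersion f'] [IsFinite u] (hfac : f' ≫ u = f) (s : S ⟶ Y) :
    ∃ (Z : Scheme.{u}) (g : pullback f s ⟶ Z) (v : Z ⟶ S),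
      IsImmersion g ∧ IsFinite v ∧ g ≫ v = pullback.snd f s := by
  let g : pullback f s ⟶ pullback u s :=
    pullback.lift (pullback.fst f s ≫ f') (pullback.snd f s)
      (by rw [Category.assoc, hfac, pullback.condition])
  have hg1 : g ≫ pullback.fst u s = pullback.fst f s ≫ f' := pullback.lift_fst _ _ _
  have hg2 : g ≫ pullback.snd u s = pullback.snd f s := pullback.lift_snd _ _ _
  refine ⟨pullback u s, g, pullback.snd u s, ?_, inferInstance, hg2⟩
  have right : IsPullback (pullback.snd u s) (pullback.fst u s) s u :=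
    (IsPullback.of_hasPullback u s).flip
  have big : IsPullback (g ≫ pullback.snd u s) (pullback.fst f s) s (f' ≫ u) := by
    rw [hg2, hfac]
    exact (IsPullback.of_hasPullback f s).flip
  have left : IsPullback g (pullback.fst f s) (pullback.fst u s) f' :=
    IsPullback.of_right big hg1 right
  exact MorphismProperty.of_isPullback (P := @IsImmersion) left.flip inferInstance

set_option backward.isDefEq.respectTransparency false in
/-- **Pointwise criterion**: over a Noetherian base, a finite type morphism is an immersion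
followed by a finite morphism as soon as this holds over all local schemes of the base. -/
theorem exists_immersion_finite_of_pointwise {X Y : Scheme.{u}} (f : X ⟶ Y) [IsNoetherian Y]
    [LocallyOfFiniteType f] [QuasiCompact f]
    (H : ∀ y : Y, ∃ (Z : Scheme.{u}) (g : pullback f (Y.fromSpecStalk y) ⟶ Z)
      (u : Z ⟶ Spec (Y.presheaf.stalk y)),
        IsImmersion g ∧ IsFinite u ∧ g ≫ u = pullback.snd f (Y.fromSpecStalk y)) :
    ∃ (Y' : Scheme.{u}) (f' : X ⟶ Y') (u : Y' ⟶ Y), IsImmersion f' ∧ IsFinite u ∧ f' ≫ u = f := by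
  -- the local projections are quasi-finite and separated
  have hp : ∀ y : Y, LocallyQuasiFinite (pullback.snd f (Y.fromSpecStalk y)) ∧
      IsSeparated (pullback.snd f (Y.fromSpecStalk y)) := by
    intro y
    obtain ⟨Z, g, u, hg, hu, hgu⟩ := H y
    rw [← hgu]
    exact ⟨inferInstance, inferInstance⟩
  -- quasi-finiteness
  have hqf : LocallyQuasiFinite f := by
    rw [locallyQuasiFinite_iff_finite_preimage_singleton]
    intro y
    have := (hp y).1
    have hfin := (pullback.snd f (Y.fromSpecStalk y)).finite_preimage_singleton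
      (IsLocalRing.closedPoint (Y.presheaf.stalk y))
    refine (hfin.image (pullback.fst f (Y.fromSpecStalk y))).subset ?_
    intro x hx
    have hx' : f x = Y.fromSpecStalk y (IsLocalRing.closedPoint (Y.presheaf.stalk y)) := by
      rw [Scheme.fromSpecStalk_closedPoint]
      exact hx
    obtain ⟨z, hz1, hz2⟩ := Scheme.Pullback.exists_preimage_pullback x _ hx'
    exact ⟨z, hz2, hz1⟩
  -- separatedness
  have hX : IsLocallyNoetherian X := LocallyOfFiniteType.isLocallyNoetherian f
  have hXc : CompactSpace X := QuasiCompact.compactSpace_of_compactSpace f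
  have hXN : IsNoetherian X := { }
  have hqs : QuasiSeparated f := inferInstance
  have hsep : IsSeparated f := by
    refine IsSeparated.of_valuativeCriterion f ?_
    intro S
    constructor
    rintro ⟨l₁, hl₁, hl₁'⟩ ⟨l₂, hl₂, hl₂'⟩
    ext : 1
    dsimp at *
    let R : CommRingCat.{u} := .of S.R
    let y : Y := S.i₂ (IsLocalRing.closedPoint R)
    let t : Spec R ⟶ Spec (Y.presheaf.stalk y) := Spec.map (Scheme.stalkClosedPointTo S.i₂)
    have ht : t ≫ Y.fromSpecStalk y = S.i₂ := Scheme.Spec_stalkClosedPointTo_fromSpecStalk S.i₂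
    have := (hp y).2
    let p := pullback.snd f (Y.fromSpecStalk y)
    let m₁ : Spec R ⟶ pullback f (Y.fromSpecStalk y) := pullback.lift l₁ t (by rw [hl₁', ht])
    let m₂ : Spec R ⟶ pullback f (Y.fromSpecStalk y) := pullback.lift l₂ t (by rw [hl₂', ht])
    let ι := Spec.map (CommRingCat.ofHom (algebraMap S.R S.K))
    have hm : ι ≫ m₁ = ι ≫ m₂ := by
      apply pullback.hom_ext
      · simp only [Category.assoc, m₁, m₂, pullback.lift_fst]
        rw [hl₁, hl₂]
      · simp only [Category.assoc, m₁, m₂, pullback.lift_snd]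
    let S' : ValuativeCommSq p :=
      { R := S.R
        K := S.K
        i₁ := ι ≫ m₁
        i₂ := t
        commSq := ⟨by simp only [Category.assoc, m₁, p, pullback.lift_snd, ι]⟩ }
    have hU := IsSeparated.valuativeCriterion p S'
    let L₁ : S'.commSq.LiftStruct := ⟨m₁, rfl, pullback.lift_snd _ _ _⟩
    let L₂ : S'.commSq.LiftStruct := ⟨m₂, hm.symm, pullback.lift_snd _ _ _⟩
    have h12 : L₁ = L₂ := Subsingleton.elim _ _
    have h12' : m₁ = m₂ := congrArg CommSq.LiftStruct.l h12
    have := congrArg (fun m => m ≫ pullback.fst f (Y.fromSpecStalk y)) h12'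
    simpa only [m₁, m₂, pullback.lift_fst] using this
  obtain ⟨T, φ, π, h1, h2, -, h4⟩ := exists_immersion_finite_fp f
  exact ⟨T, φ, π, h1, h2, h4⟩

end Groth.Agent.H68.ZMT
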